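import Groth.Agent.L16.FinPart.Local

/-!
# Finite pieces at finitely many quasi-finite points
-/

set_option autoImplicit false
set_option linter.style.haveILetI false

universe u

open CategoryTheory CategoryTheory.Limits AlgebraicGeometry

namespace Groth.L16.FinPart

variable {X S : Scheme.{u}} (f : X ⟶ S)

/-- An open of a base change is a finite piece at `x` over the point `u`. -/
structure Piece {U : Scheme.{u}} (g : U ⟶ S) (u : U) (x : X) (V : (pullback f g).Opens) : Prop where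
  finite : IsFinite (V.ι ≫ pullback.snd f g)
  exists_mem : ∃ v ∈ V, pullback.snd f g v = u ∧ pullback.fst f g v = x
  unique : ∀ w ∈ V, pullback.snd f g w = u → pullback.fst f g w = x

/-- Elementary neighbourhoods have a common refinement. -/
theorem exists_refine {U₁ U₂ : Scheme.{u}} {g₁ : U₁ ⟶ S} {g₂ : U₂ ⟶ S} {u₁ : U₁} {u₂ : U₂} {s : S}
    (h₁ : Hens2.IsEtaleNbhd g₁ u₁ s) (h₂ : Hens2.IsEtaleNbhd g₂ u₂ s) :
    ∃ (U : Scheme.{u}) (a : U ⟶ U₁) (b : U ⟶ U₂) (v : U), a ≫ g₁ = b ≫ g₂ ∧ a v = u₁ ∧ b v = u₂ ∧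
      Hens2.IsEtaleNbhd (a ≫ g₁) v s := by
  obtain ⟨v, hv1, hv2, hv3, -⟩ := exists_unique_point g₁ g₂ u₂ h₂.residue_bijective u₁
    (h₁.base_eq.trans h₂.base_eq.symm)
  haveI := h₁.etale
  haveI := h₂.etale
  subst hv1
  refine ⟨pullback g₁ g₂, pullback.fst _ _, pullback.snd _ _, v, pullback.condition, rfl, hv2,
    ⟨inferInstance, ?_, ?_⟩⟩
  · rw [Scheme.Hom.comp_apply]; exact h₁.base_eq
  · rw [Scheme.residueFieldMap_comp]
    exact hv3.comp h₁.residue_bijective

/-- Pieces pull back along refinements. -/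
theorem Piece.pull {U U' : Scheme.{u}} {g : U ⟶ S} {u : U} {x : X} {V : (pullback f g).Opens}
    (h : Piece f g u x V) (a : U' ⟶ U) (u' : U') (ha : a u' = u)
    (hbij : Function.Bijective ((a ≫ g).residueFieldMap u')) (hx : f x = g u) :
    ∃ V' : (pullback f (a ≫ g)).Opens, Piece f (a ≫ g) u' x V' := by
  let m : pullback f (a ≫ g) ⟶ pullback f g :=
    pullback.lift (pullback.fst _ _) (pullback.snd _ _ ≫ a) (by rw [Category.assoc, pullback.condition])
  have hm1 : m ≫ pullback.fst f g = pullback.fst f (a ≫ g) := pullback.lift_fst _ _ _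
  have hm2 : m ≫ pullback.snd f g = pullback.snd f (a ≫ g) ≫ a := pullback.lift_snd _ _ _
  have hsq : IsPullback m (pullback.snd f (a ≫ g)) (pullback.snd f g) a :=
    IsPullback.of_right (by rw [hm1]; exact IsPullback.of_hasPullback f (a ≫ g)) hm2
      (IsPullback.of_hasPullback f g)
  have hsq' : IsPullback (m ∣_ V) ((m ⁻¹ᵁ V).ι ≫ pullback.snd f (a ≫ g)) (V.ι ≫ pullback.snd f g) a :=
    (isPullback_morphismRestrict m V).paste_vert hsq
  refine ⟨m ⁻¹ᵁ V, ⟨MorphismProperty.of_isPullback hsq' h.finite, ?_, fun w hw hwu => ?_⟩⟩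
  · obtain ⟨v, hv, hvu, hvx⟩ := h.exists_mem
    obtain ⟨v', hv'1, hv'2, -, -⟩ := exists_unique_point f (a ≫ g) u' hbij x
      (by rw [Scheme.Hom.comp_apply, ha, hx])
    refine ⟨v', ?_, hv'2, hv'1⟩
    obtain ⟨t, ht1, ht2⟩ := Scheme.exists_preimage_of_isPullback hsq v u' (by rw [hvu, ha])
    have ht : pullback.fst f (a ≫ g) t = x := by
      rw [← hm1, Scheme.Hom.comp_apply, ht1, hvx]
    obtain ⟨t', -, -, -, huniq⟩ := exists_unique_point f (a ≫ g) u' hbij x
      (by rw [Scheme.Hom.comp_apply, ha, hx])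
    show m v' ∈ V
    rw [(huniq v' hv'1 hv'2).trans (huniq t ht ht2).symm, ht1]
    exact hv
  · rw [← hm1, Scheme.Hom.comp_apply]
    refine h.unique _ hw ?_
    rw [← Scheme.Hom.comp_apply, hm2, Scheme.Hom.comp_apply, hwu, ha]

variable [LocallyOfFiniteType f]

theorem exists_family (s : S) {ι : Type*} [Finite ι] (x : ι → X) (hs : ∀ i, f (x i) = s)
    (hx : ∀ i, f.QuasiFiniteAt (x i)) :
    ∃ (U : Scheme.{u}) (g : U ⟶ S) (u : U), Hens2.IsEtaleNbhd g u s ∧
      ∃ V : ι → (pullback f g).Opens, ∀ i, Piece f g u (x i) (V i) := by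
  classical
  haveI := Fintype.ofFinite ι
  suffices h : ∀ T : Finset ι, ∃ (U : Scheme.{u}) (g : U ⟶ S) (u : U), Hens2.IsEtaleNbhd g u s ∧
      ∀ i ∈ T, ∃ V : (pullback f g).Opens, Piece f g u (x i) V by
    obtain ⟨U, g, u, hn, hV⟩ := h Finset.univ
    choose V hV using fun i => hV i (Finset.mem_univ i)
    exact ⟨U, g, u, hn, V, hV⟩
  intro T
  induction T using Finset.induction_on with
  | empty =>
    refine ⟨S, 𝟙 S, s, ⟨inferInstance, rfl, ?_⟩, by simp⟩
    rw [Scheme.residueFieldMap_id]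
    exact Function.bijective_id
  | @insert i T _ ih =>
    obtain ⟨U₁, g₁, u₁, hn₁, hT⟩ := ih
    obtain ⟨U₂, g₂, u₂, hn₂, V₂, hfin, hex, huniq⟩ := exists_nbhd_piece f (hx i)
    rw [hs i] at hn₂
    obtain ⟨U, a, b, v, hab, hav, hbv, hn⟩ := exists_refine hn₁ hn₂
    refine ⟨U, a ≫ g₁, v, hn, fun j hj => ?_⟩
    rcases Finset.mem_insert.1 hj with rfl | hj
    · rw [hab] at hn ⊢
      exact Piece.pull f ⟨hfin, hex, huniq⟩ b v hbv hn.residue_bijective ((hs j).trans hn₂.base_eq.symm)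
    · obtain ⟨V, hV⟩ := hT j hj
      exact hV.pull f a v hav hn.residue_bijective ((hs j).trans hn₁.base_eq.symm)

end Groth.L16.FinPart
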