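import Groth.Agent.L16.FinPart.Point
import Mathlib.AlgebraicGeometry.ZariskisMainTheorem

/-!
# Splitting off a finite piece at a quasi-finite point over an elementary étale neighbourhood
-/

set_option autoImplicit false
set_option linter.style.haveILetI false

universe u

open CategoryTheory CategoryTheory.Limits AlgebraicGeometry
open scoped TensorProduct

namespace Groth.L16.FinPart

variable {X S : Scheme.{u}} (f : X ⟶ S) [LocallyOfFiniteType f]

/-- A lift of a residue field along a chart. -/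
theorem bijective_residueFieldMap_SpecMap {A R : CommRingCat.{u}} (φ : A ⟶ R) (p : Spec A) (P : Spec R)
    (hP : P.asIdeal.comap φ.hom = p.asIdeal)
    (h : Function.Bijective (Ideal.ResidueField.map p.asIdeal P.asIdeal φ.hom hP.symm)) :
    Spec.map φ P = p ∧ Function.Bijective ((Spec.map φ).residueFieldMap P) := by
  let e : CommRingCat.of p.asIdeal.ResidueField ⟶ CommRingCat.of P.asIdeal.ResidueField :=
    CommRingCat.ofHom (Ideal.ResidueField.map p.asIdeal P.asIdeal φ.hom hP.symm)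
  haveI : IsIso e := (ConcreteCategory.isIso_iff_bijective _).2 h
  let k : Spec ((Spec A).residueField p) ⟶ Spec R :=
    Spec.map ((Scheme.Spec.residueFieldIso A p).inv) ≫ Spec.map (inv e) ≫
      Spec.map (CommRingCat.ofHom (algebraMap R P.asIdeal.ResidueField))
  have hcomm : φ ≫ CommRingCat.ofHom (algebraMap R P.asIdeal.ResidueField) =
      CommRingCat.ofHom (algebraMap A p.asIdeal.ResidueField) ≫ e := by
    ext a
    show algebraMap R P.asIdeal.ResidueField (φ.hom a) =
      Ideal.ResidueField.map p.asIdeal P.asIdeal φ.hom hP.symm (algebraMap A p.asIdeal.ResidueField a)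
    exact (Ideal.ResidueField.map_algebraMap _ _ _ _ _).symm
  have hk : k ≫ Spec.map φ = (Spec A).fromSpecResidueField p := by
    rw [← Scheme.Spec.map_residueFieldIso_inv_eq_fromSpecResidueField A p]
    simp only [k, Category.assoc, ← Spec.map_comp]
    rw [← Category.assoc φ, hcomm]
    simp only [Category.assoc, IsIso.hom_inv_id_assoc]
  obtain ⟨h1, h2⟩ := bijective_of_lift (Spec.map φ) p k hk
  have hw : k (IsLocalRing.closedPoint ((Spec A).residueField p)) = P := by
    simp only [k, Scheme.Hom.comp_apply]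
    generalize (Spec.map (inv e)) _ = z
    exact PrimeSpectrum.ext ((congrArg (Ideal.comap (algebraMap R P.asIdeal.ResidueField))
      ((Ideal.eq_bot_or_top z.asIdeal).resolve_right z.isPrime.ne_top)).trans
      (Ideal.ker_algebraMap_residueField P.asIdeal))
  rw [hw] at h1 h2
  exact ⟨h1, h2⟩

theorem exists_nbhd_piece {x : X} (hx : f.QuasiFiniteAt x) :
    ∃ (U : Scheme.{u}) (g : U ⟶ S) (u : U), Hens2.IsEtaleNbhd g u (f x) ∧
      ∃ V : (pullback f g).Opens, IsFinite (V.ι ≫ pullback.snd f g) ∧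
        (∃ v ∈ V, pullback.snd f g v = u ∧ pullback.fst f g v = x) ∧
        ∀ w ∈ V, pullback.snd f g w = u → pullback.fst f g w = x := by
  obtain ⟨_, ⟨U, hU, rfl⟩, hxU, -⟩ := S.isBasis_affineOpens.exists_subset_of_mem_open
    (Set.mem_univ (f x)) isOpen_univ
  obtain ⟨_, ⟨V, hV, rfl⟩, hxV, hUV : V ≤ f ⁻¹ᵁ U⟩ :=
    X.isBasis_affineOpens.exists_subset_of_mem_open hxU (f ⁻¹ᵁ U).2
  have : (f.appLE U V hUV).hom.FiniteType := f.finiteType_appLE hU hV hUV
  algebraize [(f.appLE U V hUV).hom]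
  have : (hV.primeIdealOf ⟨x, hxV⟩).asIdeal.LiesOver (hU.primeIdealOf ⟨f x, hxU⟩).asIdeal := by
    suffices hU.primeIdealOf ⟨f x, hxU⟩ = Spec.map (f.appLE U V hUV) (hV.primeIdealOf ⟨x, hxV⟩) from
      ⟨congr(($this).1)⟩
    apply hU.isoSpec.inv.homeomorph.injective
    apply Subtype.ext
    simp only [IsAffineOpen.primeIdealOf, Scheme.Hom.homeomorph_apply,
      ← Scheme.Hom.comp_apply, ← Scheme.Opens.ι_apply, IsAffineOpen.isoSpec_hom]
    simp
  have : Algebra.QuasiFiniteAt Γ(S, U) (hV.primeIdealOf ⟨x, hxV⟩).asIdeal :=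
    hx.quasiFiniteAt hV hU hUV hxV
  obtain ⟨R, _, _, _, P, _, _, e, _, P', _, _, hP', heP', hres, _, huniq⟩ :=
    Algebra.exists_etale_isIdempotentElem_forall_liesOver_eq
    (hU.primeIdealOf ⟨f x, hxU⟩).asIdeal (hV.primeIdealOf ⟨x, hxV⟩).asIdeal
  have : (algebraMap R (Localization.Away e)).Finite := RingHom.finite_algebraMap.mpr ‹_›
  let φ : Γ(S, U) ⟶ .of R := CommRingCat.ofHom <| algebraMap Γ(S, U) R
  have hφ : φ.hom.Etale := RingHom.etale_algebraMap.mpr ‹_›
  have : Etale (Spec.map φ) := HasRingHomProperty.Spec_iff.mpr hφ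
  let e₁ : Spec (.of (R ⊗[Γ(S, U)] Γ(X, V))) ≅ pullback (Spec.map (f.appLE U V hUV)) (Spec.map φ) :=
    (pullbackSpecIso _ _ _).symm ≪≫ pullbackSymmetry _ _
  have he₁ : e₁.hom ≫ pullback.fst _ _ =
      Spec.map (CommRingCat.ofHom Algebra.TensorProduct.includeRight.toRingHom) := by
    dsimp [e₁, RingHom.algebraMap_toAlgebra]
    rw [Category.assoc, pullbackSymmetry_hom_comp_fst]
    exact pullbackSpecIso_inv_snd ..
  have he₁' : e₁.hom ≫ pullback.snd _ _ =
      Spec.map (CommRingCat.ofHom (algebraMap R (R ⊗[Γ(S, U)] Γ(X, V)))) := by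
    dsimp [e₁, RingHom.algebraMap_toAlgebra]
    rw [Category.assoc, pullbackSymmetry_hom_comp_snd]
    exact pullbackSpecIso_inv_fst ..
  let g : Spec (.of (R ⊗[Γ(S, U)] Γ(X, V))) ⟶ pullback f (Spec.map φ ≫ hU.fromSpec) :=
    e₁.hom ≫ pullback.map _ _ _ _ hV.fromSpec (𝟙 _) hU.fromSpec
      (IsAffineOpen.SpecMap_appLE_fromSpec ..) (by simp)
  have hg₁ : g ≫ pullback.fst _ _ =
      Spec.map (CommRingCat.ofHom Algebra.TensorProduct.includeRight.toRingHom) ≫ hV.fromSpec := by
    simp only [g, Category.assoc, pullback.lift_fst]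
    rw [← Category.assoc, he₁]
  have hg₂ : g ≫ pullback.snd _ _ =
      Spec.map (CommRingCat.ofHom (algebraMap R (R ⊗[Γ(S, U)] Γ(X, V)))) := by
    simp only [g, Category.assoc, pullback.lift_snd]
    rw [← Category.assoc, he₁', Category.comp_id]
  let W₁ := g ''ᵁ PrimeSpectrum.basicOpen e
  have hfin : IsFinite (W₁.ι ≫ pullback.snd f _) := by
    let ι : Spec (.of (Localization.Away e)) ⟶ pullback f (Spec.map φ ≫ hU.fromSpec) :=
      Spec.map (CommRingCat.ofHom <| algebraMap _ _) ≫ g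
    have : ι.opensRange = W₁ := by
      simp only [Scheme.Hom.opensRange_comp, ι, W₁]
      congr 1
      exact TopologicalSpace.Opens.ext <| PrimeSpectrum.localization_away_comap_range _ _
    rw [← this, ← MorphismProperty.cancel_left_of_respectsIso @IsFinite
      (Scheme.Hom.isoOpensRange _).hom]
    rw [← Category.assoc, Scheme.Hom.isoOpensRange_hom_ι]
    simp only [ι, Category.assoc]
    rw [hg₂, ← Spec.map_comp, IsFinite.SpecMap_iff, ← CommRingCat.ofHom_comp]
    exact ‹(algebraMap R (Localization.Away e)).Finite›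
  obtain ⟨hPp, hb⟩ := bijective_residueFieldMap_SpecMap φ (hU.primeIdealOf ⟨f x, hxU⟩) ⟨P, ‹_›⟩
    (Ideal.over_def P (hU.primeIdealOf ⟨f x, hxU⟩).asIdeal).symm hres
  have hbase : (Spec.map φ ≫ hU.fromSpec) (⟨P, ‹_›⟩ : Spec (.of R)) = f x := by
    rw [Scheme.Hom.comp_apply, hPp]
    exact hU.fromSpec_primeIdealOf ⟨f x, hxU⟩
  refine ⟨Spec (.of R), Spec.map φ ≫ hU.fromSpec, ⟨P, ‹_›⟩, ⟨inferInstance, hbase, ?_⟩, W₁, hfin,
    ⟨g ⟨P', ‹_›⟩, ⟨⟨P', ‹_›⟩, heP', rfl⟩, ?_, ?_⟩, ?_⟩
  · rw [Scheme.residueFieldMap_comp]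
    exact hb.comp (ConcreteCategory.bijective_of_isIso (hU.fromSpec.residueFieldMap _))
  · rw [← Scheme.Hom.comp_apply, hg₂]
    exact PrimeSpectrum.ext (Ideal.over_def P' P).symm
  · rw [← Scheme.Hom.comp_apply, hg₁, Scheme.Hom.comp_apply]
    refine (congrArg hV.fromSpec ?_).trans (hV.fromSpec_primeIdealOf ⟨x, hxV⟩)
    exact PrimeSpectrum.ext hP'
  · rintro w ⟨q, hq, rfl⟩ hw
    replace hw := ((congrArg (fun m => m q) hg₂).symm.trans ((Scheme.Hom.comp_apply g _ q).trans hw))
    have hqP : q.asIdeal = P' := huniq q.asIdeal q.isPrime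
      ⟨(congrArg PrimeSpectrum.asIdeal hw).symm⟩ hq
    refine (Scheme.Hom.comp_apply g _ q).symm.trans ((congrArg (fun m => m q) hg₁).trans ?_)
    rw [Scheme.Hom.comp_apply]
    refine (congrArg hV.fromSpec ?_).trans (hV.fromSpec_primeIdealOf ⟨x, hxV⟩)
    refine PrimeSpectrum.ext ?_
    show q.asIdeal.comap _ = _
    rw [hqP]
    exact hP'

end Groth.L16.FinPart
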