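import Groth.Prelude.Def_Hens2
import Mathlib.AlgebraicGeometry.ResidueField
import Mathlib.AlgebraicGeometry.PullbackCarrier
import Mathlib.AlgebraicGeometry.Morphisms.Etale

/-!
# Points of a base change along a residually trivial point
-/

set_option autoImplicit false

universe u

open CategoryTheory CategoryTheory.Limits AlgebraicGeometry

namespace Groth.L16.FinPart

/-- A point with a rational lift is residually trivial. -/
theorem bijective_of_lift {W U : Scheme.{u}} (h : W ⟶ U) (u : U)
    (k : Spec (U.residueField u) ⟶ W) (hk : k ≫ h = U.fromSpecResidueField u) :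
    h (k (IsLocalRing.closedPoint _)) = u ∧
      Function.Bijective (h.residueFieldMap (k (IsLocalRing.closedPoint _))) := by
  let K := U.residueField u
  let w : W := k (IsLocalRing.closedPoint K)
  let D : W.residueField w ⟶ K := W.descResidueField (K := K) (Scheme.stalkClosedPointTo k)
  have hD : Spec.map D ≫ W.fromSpecResidueField w = k :=
    Scheme.descResidueField_stalkClosedPointTo_fromSpecResidueField K W k
  have hwu : h w = u := by
    show (k ≫ h) (IsLocalRing.closedPoint K) = u
    rw [hk]
    exact Scheme.fromSpecResidueField_apply u _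
  refine ⟨hwu, (h.residueFieldMap w).hom.injective, fun z => ?_⟩
  have key : h.residueFieldMap w ≫ D = (U.residueFieldCongr hwu).hom := by
    rw [← Spec.map_inj, Spec.map_comp, ← cancel_mono (U.fromSpecResidueField _), Category.assoc,
      Scheme.Hom.SpecMap_residueFieldMap_fromSpecResidueField, ← Category.assoc, hD, hk,
      Scheme.residueFieldCongr_fromSpecResidueField]
  obtain ⟨y, hy⟩ := (ConcreteCategory.bijective_of_isIso (U.residueFieldCongr hwu).hom).2 (D z)
  rw [← key, CommRingCat.comp_apply] at hy
  exact ⟨y, D.hom.injective hy⟩

variable {X U S : Scheme.{u}} (f : X ⟶ S) (g : U ⟶ S)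

/-- Over a residually trivial point each point of the fibre has exactly one preimage. -/
theorem exists_unique_point (u : U) (hu : Function.Bijective (g.residueFieldMap u)) (x : X)
    (hx : f x = g u) :
    ∃ v : ↑(pullback f g), pullback.fst f g v = x ∧ pullback.snd f g v = u ∧
      Function.Bijective ((pullback.fst f g).residueFieldMap v) ∧
      ∀ w : ↑(pullback f g), pullback.fst f g w = x → pullback.snd f g w = u → w = v := by
  haveI : IsIso (g.residueFieldMap u) := (ConcreteCategory.isIso_iff_bijective _).2 hu
  let ψ : U.residueField u ⟶ X.residueField x :=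
    inv (g.residueFieldMap u) ≫ (S.residueFieldCongr hx.symm).hom ≫ f.residueFieldMap x
  have hψ : X.fromSpecResidueField x ≫ f = (Spec.map ψ ≫ U.fromSpecResidueField u) ≫ g := by
    simp only [ψ, Spec.map_comp, Category.assoc]
    rw [← g.SpecMap_residueFieldMap_fromSpecResidueField u, ← Category.assoc (Spec.map (inv _)),
      ← Spec.map_comp, IsIso.hom_inv_id, Spec.map_id, Category.id_comp,
      Scheme.residueFieldCongr_fromSpecResidueField, Scheme.Hom.SpecMap_residueFieldMap_fromSpecResidueField]
  let k : Spec (X.residueField x) ⟶ pullback f g := pullback.lift _ _ hψ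
  have hk1 : k ≫ pullback.fst f g = X.fromSpecResidueField x := pullback.lift_fst _ _ _
  have hk2 : k ≫ pullback.snd f g = Spec.map ψ ≫ U.fromSpecResidueField u := pullback.lift_snd _ _ _
  obtain ⟨h1, h2⟩ := bijective_of_lift (pullback.fst f g) x k hk1
  refine ⟨k (IsLocalRing.closedPoint _), h1, ?_, h2, fun w hw1 hw2 => ?_⟩
  · rw [← Scheme.Hom.comp_apply, hk2, Scheme.Hom.comp_apply]
    exact Scheme.fromSpecResidueField_apply u _
  · have hmono : Mono (U.fromSpecResidueField u ≫ g) := by
      rw [← g.SpecMap_residueFieldMap_fromSpecResidueField u]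
      infer_instance
    subst hw1
    let P := pullback f g
    have e : P.fromSpecResidueField w = Spec.map ((pullback.fst f g).residueFieldMap w) ≫ k := by
      apply pullback.hom_ext
      · rw [Category.assoc, hk1, Scheme.Hom.SpecMap_residueFieldMap_fromSpecResidueField]
      · rw [Category.assoc, hk2]
        obtain ⟨α, hα⟩ : ∃ α : U.residueField u ⟶ P.residueField w,
            P.fromSpecResidueField w ≫ pullback.snd f g = Spec.map α ≫ U.fromSpecResidueField u :=
          ⟨(U.residueFieldCongr hw2.symm).hom ≫ (pullback.snd f g).residueFieldMap w, by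
            rw [Spec.map_comp, Category.assoc, Scheme.residueFieldCongr_fromSpecResidueField,
              Scheme.Hom.SpecMap_residueFieldMap_fromSpecResidueField]⟩
        have h3 : Spec.map α ≫ (U.fromSpecResidueField u ≫ g) =
            (Spec.map ((pullback.fst f g).residueFieldMap w) ≫ Spec.map ψ) ≫ (U.fromSpecResidueField u ≫ g) := by
          rw [← Category.assoc, ← hα, Category.assoc, ← pullback.condition]
          rw [← Category.assoc, ← Scheme.Hom.SpecMap_residueFieldMap_fromSpecResidueField (pullback.fst f g) w,
            Category.assoc, hψ]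
          simp only [Category.assoc]
        rw [hα, ← Category.assoc, (cancel_mono _).1 h3]
    have h4 := congrArg (fun m => m (IsLocalRing.closedPoint (P.residueField w))) e
    simp only [Scheme.Hom.comp_apply, Scheme.fromSpecResidueField_apply] at h4
    exact h4.trans (congrArg k (Subsingleton.elim (α := PrimeSpectrum _) _ _))

end Groth.L16.FinPart
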