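import Groth.Agent.L16.FinPart.Family

/-!
# Finite unions of finite clopen pieces
-/

set_option autoImplicit false
set_option linter.style.haveILetI false

universe u

open CategoryTheory CategoryTheory.Limits AlgebraicGeometry

namespace Groth.L16.FinPart

/-- Universal closedness descends along finite jointly surjective families. -/
theorem universallyClosed_of_family {P U : Scheme.{u}} (h : P ⟶ U) {ι : Type*} [Finite ι]
    {T : ι → Scheme.{u}} (j : ∀ i, T i ⟶ P) (hj : ∀ z, ∃ i t, j i t = z)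
    (hc : ∀ i, UniversallyClosed (j i ≫ h)) : UniversallyClosed h := by
  constructor
  intro X' Y' i₁ i₂ f' H Z hZ
  have e : f' '' Z = ⋃ i, (pullback.snd (j i) i₁ ≫ f') '' (pullback.snd (j i) i₁ ⁻¹' Z) := by
    ext w
    simp only [Set.mem_iUnion, Set.mem_image, Set.mem_preimage, Scheme.Hom.comp_apply]
    constructor
    · rintro ⟨z, hz, rfl⟩
      obtain ⟨i, t, ht⟩ := hj (i₁ z)
      obtain ⟨a, -, ha⟩ := Scheme.Pullback.exists_preimage_pullback t z ht
      exact ⟨i, a, by rw [ha]; exact hz, by rw [ha]⟩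
    · rintro ⟨i, a, ha, rfl⟩
      exact ⟨_, ha, rfl⟩
  rw [e]
  refine isClosed_iUnion_of_finite fun i => ?_
  exact (hc i).universally_isClosedMap _ _ _
    ((IsPullback.of_hasPullback (j i) i₁).flip.paste_horiz H) _
      (hZ.preimage (Scheme.Hom.continuous _))

/-- An open finite over the base of a separated morphism is clopen. -/
theorem isClosed_of_isFinite {P U : Scheme.{u}} (h : P ⟶ U) [IsSeparated h] (V : P.Opens)
    [IsFinite (V.ι ≫ h)] : IsClosed (V : Set P) := by
  haveI : UniversallyClosed V.ι := UniversallyClosed.of_comp_of_isSeparated V.ι h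
  rw [← V.range_ι]
  exact V.ι.isClosedMap.isClosed_range

/-- A finite union of opens finite over the base is finite. -/
theorem isFinite_iSup {P U : Scheme.{u}} (h : P ⟶ U) [IsSeparated h] [LocallyOfFiniteType h]
    {ι : Type*} [Finite ι] (V : ι → P.Opens) [∀ i, IsFinite ((V i).ι ≫ h)] :
    IsFinite ((⨆ i, V i).ι ≫ h) := by
  haveI hfin : ∀ i, IsFinite (P.homOfLE (le_iSup V i) ≫ (⨆ i, V i).ι ≫ h) := fun i => by
    rw [← Category.assoc, Scheme.homOfLE_ι]; infer_instance
  have hj : ∀ z : ↑((⨆ i, V i : P.Opens) : Scheme), ∃ i t, P.homOfLE (le_iSup V i) t = z := by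
    intro z
    obtain ⟨i, hi⟩ := TopologicalSpace.Opens.mem_iSup.1 z.2
    exact ⟨i, ⟨z.1, hi⟩, by apply Subtype.ext; simp⟩
  haveI : UniversallyClosed ((⨆ i, V i).ι ≫ h) :=
    universallyClosed_of_family _ _ hj fun i => inferInstance
  haveI : IsProper ((⨆ i, V i).ι ≫ h) := ⟨⟩
  haveI : LocallyQuasiFinite ((⨆ i, V i).ι ≫ h) := by
    rw [← Scheme.Hom.quasiFiniteLocus_eq_top_iff]
    refine eq_top_iff.2 fun z _ => ?_
    obtain ⟨i, t, rfl⟩ := hj z
    show ((⨆ i, V i).ι ≫ h).QuasiFiniteAt _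
    rw [← Scheme.Hom.quasiFiniteAt_comp_iff_of_isOpenImmersion]
    exact Scheme.Hom.quasiFiniteAt _ t
  exact IsFinite.of_isProper_of_locallyQuasiFinite _

end Groth.L16.FinPart
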